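import Mathlib

/-!
Conjugacy classes of `π`-elements lying over a coset of a normal subgroup.

For `g` a `π`-element modulo `N`, the number of commuting pairs in `gN × N` whose first entry is
a `π`-element equals the number of those whose second entry is one.
-/

namespace CfsgLib.ClassPi

variable {G : Type*} [Group G] {π : Set ℕ}

/-- Every prime dividing the order lies in `π`. -/
def IsPiEl (π : Set ℕ) (x : G) : Prop := ∀ q : ℕ, q.Prime → q ∣ orderOf x → q ∈ π

/-- No prime dividing the order lies in `π`. -/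
def IsCoPiEl (π : Set ℕ) (x : G) : Prop := ∀ q : ℕ, q.Prime → q ∣ orderOf x → q ∉ π

lemma isPiEl_of_pow_eq_one {n : ℕ} {x : G} (h : x ^ n = 1)
    (hn : ∀ q : ℕ, q.Prime → q ∣ n → q ∈ π) : IsPiEl π x :=
  fun q hq hd => hn q hq (hd.trans (orderOf_dvd_of_pow_eq_one h))

lemma isCoPiEl_of_pow_eq_one {n : ℕ} {x : G} (h : x ^ n = 1)
    (hn : ∀ q : ℕ, q.Prime → q ∣ n → q ∉ π) : IsCoPiEl π x :=
  fun q hq hd => hn q hq (hd.trans (orderOf_dvd_of_pow_eq_one h))

lemma eq_one_of_both {x : G} (h : IsPiEl π x) (h' : IsCoPiEl π x) : x = 1 := by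
  rw [← orderOf_eq_one_iff]
  by_contra hne
  obtain ⟨q, hq, hqd⟩ := Nat.exists_prime_and_dvd hne
  exact h' q hq hqd (h q hq hqd)

lemma IsPiEl.mul {x y : G} (hx : IsPiEl π x) (hy : IsPiEl π y) (hc : Commute x y) :
    IsPiEl π (x * y) := fun q hq hd => by
  rcases (Nat.Prime.dvd_mul hq).mp ((hd.trans hc.orderOf_mul_dvd_lcm).trans
    (Nat.lcm_dvd_mul _ _)) with h | h
  exacts [hx q hq h, hy q hq h]

lemma IsCoPiEl.mul {x y : G} (hx : IsCoPiEl π x) (hy : IsCoPiEl π y) (hc : Commute x y) :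
    IsCoPiEl π (x * y) := fun q hq hd => by
  rcases (Nat.Prime.dvd_mul hq).mp ((hd.trans hc.orderOf_mul_dvd_lcm).trans
    (Nat.lcm_dvd_mul _ _)) with h | h
  exacts [hx q hq h, hy q hq h]

lemma IsPiEl.inv {x : G} (hx : IsPiEl π x) : IsPiEl π x⁻¹ := by
  simpa [IsPiEl, orderOf_inv] using hx

lemma IsCoPiEl.inv {x : G} (hx : IsCoPiEl π x) : IsCoPiEl π x⁻¹ := by
  simpa [IsCoPiEl, orderOf_inv] using hx

variable [Finite G]

/-- The `π`-part and the `π'`-part of an element, both powers of it. -/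
theorem exists_parts (π : Set ℕ) (x : G) : ∃ a b : G, a * b = x ∧ a ∈ Subgroup.zpowers x ∧
    b ∈ Subgroup.zpowers x ∧ IsPiEl π a ∧ IsCoPiEl π b := by
  classical
  set n := orderOf x with hn
  have hn0 : n ≠ 0 := (orderOf_pos x).ne'
  set n1 := ∏ p ∈ n.primeFactors.filter (fun p => p ∈ π), p ^ n.factorization p with h1
  set n2 := ∏ p ∈ n.primeFactors.filter (fun p => p ∉ π), p ^ n.factorization p with h2
  have hmul : n1 * n2 = n := by
    rw [h1, h2, Finset.prod_filter_mul_prod_filter_not, ← Nat.support_factorization]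
    exact Nat.prod_factorization_pow_eq_self hn0
  have key : ∀ (P : ℕ → Prop) [DecidablePred P] (q : ℕ), q.Prime →
      q ∣ ∏ p ∈ n.primeFactors.filter P, p ^ n.factorization p → P q := by
    intro P _ q hq hd
    obtain ⟨p, hp, hqp⟩ := (hq.prime.dvd_finsetProd_iff _).mp hd
    rw [Finset.mem_filter] at hp
    have := (Nat.prime_dvd_prime_iff_eq hq (Nat.prime_of_mem_primeFactors hp.1)).mp
      (hq.dvd_of_dvd_pow hqp)
    exact this ▸ hp.2
  have hcop : Nat.gcd n1 n2 = 1 := Nat.coprime_of_dvd fun q hq hq1 hq2 =>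
    key (fun p => p ∉ π) q hq hq2 (key (fun p => p ∈ π) q hq hq1)
  have hbez := Nat.gcd_eq_gcd_ab n1 n2
  rw [hcop] at hbez
  refine ⟨(x ^ n2) ^ Nat.gcdB n1 n2, (x ^ n1) ^ Nat.gcdA n1 n2, ?_,
    Subgroup.zpow_mem _ (Subgroup.pow_mem _ (Subgroup.mem_zpowers x) _) _,
    Subgroup.zpow_mem _ (Subgroup.pow_mem _ (Subgroup.mem_zpowers x) _) _,
    isPiEl_of_pow_eq_one (n := n1) ?_ (fun q hq hd => key (fun p => p ∈ π) q hq hd),
    isCoPiEl_of_pow_eq_one (n := n2) ?_ (fun q hq hd => key (fun p => p ∉ π) q hq hd)⟩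
  · rw [← zpow_natCast x n2, ← zpow_natCast x n1, ← zpow_mul, ← zpow_mul, ← zpow_add,
      add_comm, ← hbez]
    simp
  · rw [← zpow_natCast, ← zpow_mul, mul_comm, zpow_mul, zpow_natCast, ← pow_mul, mul_comm, hmul,
      hn, pow_orderOf_eq_one, one_zpow]
  · rw [← zpow_natCast, ← zpow_mul, mul_comm, zpow_mul, zpow_natCast, ← pow_mul, hmul,
      hn, pow_orderOf_eq_one, one_zpow]

/-- The `π`-part. -/
noncomputable def piP (π : Set ℕ) (x : G) : G := (exists_parts π x).choose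

/-- The `π'`-part. -/
noncomputable def coP (π : Set ℕ) (x : G) : G := (exists_parts π x).choose_spec.choose

lemma piP_spec (π : Set ℕ) (x : G) : piP π x * coP π x = x ∧ piP π x ∈ Subgroup.zpowers x ∧
    coP π x ∈ Subgroup.zpowers x ∧ IsPiEl π (piP π x) ∧ IsCoPiEl π (coP π x) :=
  (exists_parts π x).choose_spec.choose_spec

lemma commute_of_mem_zpowers {x y a : G} (ha : a ∈ Subgroup.zpowers x) (h : Commute y x) :
    Commute y a := by
  obtain ⟨k, rfl⟩ := Subgroup.mem_zpowers_iff.mp ha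
  exact h.zpow_right k

lemma parts_unique {a b : G} (hc : Commute a b) (ha : IsPiEl π a) (hb : IsCoPiEl π b) :
    piP π (a * b) = a ∧ coP π (a * b) = b := by
  obtain ⟨h1, h2, h3, h4, h5⟩ := piP_spec π (a * b)
  set a' := piP π (a * b)
  set b' := coP π (a * b)
  have ca : Commute a a' := commute_of_mem_zpowers h2 ((Commute.refl a).mul_right hc)
  have cb : Commute b b' := commute_of_mem_zpowers h3 (hc.symm.mul_right (Commute.refl b))
  have e : a'⁻¹ * a = b' * b⁻¹ := by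
    have hab : a' * b' = a * b := h1
    calc a'⁻¹ * a = a'⁻¹ * (a * b) * b⁻¹ := by group
      _ = a'⁻¹ * (a' * b') * b⁻¹ := by rw [hab]
      _ = b' * b⁻¹ := by group
  have one : a'⁻¹ * a = 1 := eq_one_of_both (h4.inv.mul ha ca.symm.inv_left)
    (e ▸ h5.mul hb.inv cb.symm.inv_right)
  have ha' : a' = a := by
    rwa [inv_mul_eq_one] at one
  refine ⟨ha', ?_⟩
  rw [ha'] at h1
  exact mul_left_cancel h1

omit [Finite G] in
lemma mem_of_zpowers {H : Subgroup G} {x a : G} (hx : x ∈ H) (ha : a ∈ Subgroup.zpowers x) :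
    a ∈ H := (Subgroup.zpowers_le.mpr hx) ha

variable (π) (N : Subgroup G) (g : G)

/-- Commuting pairs of `(gN ∩ K) × (N ∩ K)`. -/
def Pairs (K : Subgroup G) : Set (G × G) :=
  {p | p.1 ∈ K ∧ g⁻¹ * p.1 ∈ N ∧ p.2 ∈ K ∧ p.2 ∈ N ∧ Commute p.1 p.2}

/-- Pairs whose first entry is a `π`-element. -/
def PairsFst (K : Subgroup G) : Set (G × G) := {p | p ∈ Pairs N g K ∧ IsPiEl π p.1}

/-- Pairs whose second entry is a `π`-element. -/
def PairsSnd (K : Subgroup G) : Set (G × G) := {p | p ∈ Pairs N g K ∧ IsPiEl π p.2}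

/-- `π'`-elements of `N ∩ K`. -/
def CoEls (K : Subgroup G) : Set G := {v | v ∈ K ∧ v ∈ N ∧ IsCoPiEl π v}

variable {π N g}

lemma coP_mem [N.Normal] (hg : IsPiEl π (QuotientGroup.mk' N g)) {x : G} (hx : g⁻¹ * x ∈ N) :
    coP π x ∈ N := by
  obtain ⟨h1, h2, h3, h4, h5⟩ := piP_spec π x
  have hqx : QuotientGroup.mk' N x = QuotientGroup.mk' N g :=
    (QuotientGroup.eq.mpr hx).symm
  rw [← QuotientGroup.eq_one_iff, ← QuotientGroup.mk'_apply]
  refine eq_one_of_both (π := π) ?_ (fun q hq hd => h5 q hq (hd.trans (orderOf_map_dvd _ _)))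
  intro q hq hd
  refine hg q hq (hd.trans ?_)
  rw [← hqx]
  obtain ⟨k, hk⟩ := Subgroup.mem_zpowers_iff.mp h3
  rw [← hk, map_zpow]
  exact orderOf_dvd_of_mem_zpowers (Subgroup.zpow_mem _ (Subgroup.mem_zpowers _) _)

/-- Slicing all commuting pairs by the `π'`-part of the second entry. -/
noncomputable def sliceSnd (π : Set ℕ) (N : Subgroup G) (g : G) (K : Subgroup G) :
    Pairs N g K ≃ Σ v : CoEls π N K,
      PairsSnd π N g (K ⊓ Subgroup.centralizer ({(v : G)} : Set G)) where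
  toFun p :=
    have hs := piP_spec π p.1.2
    have hv : coP π p.1.2 ∈ CoEls π N K :=
      ⟨mem_of_zpowers p.2.2.2.1 hs.2.2.1, mem_of_zpowers p.2.2.2.2.1 hs.2.2.1, hs.2.2.2.2⟩
    have hxv : Commute p.1.1 (coP π p.1.2) := commute_of_mem_zpowers hs.2.2.1 p.2.2.2.2.2
    have huv : Commute (piP π p.1.2) (coP π p.1.2) :=
      (commute_of_mem_zpowers hs.2.1
        (commute_of_mem_zpowers hs.2.2.1 (Commute.refl p.1.2)).symm).symm
    ⟨⟨coP π p.1.2, hv⟩, ⟨(p.1.1, piP π p.1.2),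
      ⟨Subgroup.mem_inf.mpr ⟨p.2.1, Subgroup.mem_centralizer_singleton_iff.mpr hxv.eq⟩, p.2.2.1,
        Subgroup.mem_inf.mpr ⟨mem_of_zpowers p.2.2.2.1 hs.2.1,
          Subgroup.mem_centralizer_singleton_iff.mpr huv.eq⟩,
        mem_of_zpowers p.2.2.2.2.1 hs.2.1,
        commute_of_mem_zpowers hs.2.1 p.2.2.2.2.2⟩, hs.2.2.2.1⟩⟩
  invFun s := ⟨(s.2.1.1, s.2.1.2 * s.1.1),
    (Subgroup.mem_inf.mp s.2.2.1.1).1, s.2.2.1.2.1,
    K.mul_mem (Subgroup.mem_inf.mp s.2.2.1.2.2.1).1 s.1.2.1,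
    N.mul_mem s.2.2.1.2.2.2.1 s.1.2.2.1,
    s.2.2.1.2.2.2.2.mul_right
      (Subgroup.mem_centralizer_singleton_iff.mp (Subgroup.mem_inf.mp s.2.2.1.1).2)⟩
  left_inv p := by
    apply Subtype.ext
    simp only
    rw [(piP_spec π p.1.2).1]
  right_inv s := by
    obtain ⟨⟨v, hv⟩, ⟨⟨x, u⟩, hp, hu⟩⟩ := s
    have hc : Commute u v :=
      Subgroup.mem_centralizer_singleton_iff.mp (Subgroup.mem_inf.mp hp.2.2.1).2
    obtain ⟨e1, e2⟩ := parts_unique hc hu hv.2.2
    apply Sigma.subtype_ext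
    · exact Subtype.ext e2
    · simp only [e1]

/-- Slicing all commuting pairs by the `π'`-part of the first entry. -/
noncomputable def sliceFst [N.Normal] (hg : IsPiEl π (QuotientGroup.mk' N g)) (K : Subgroup G) :
    Pairs N g K ≃ Σ v : CoEls π N K,
      PairsFst π N g (K ⊓ Subgroup.centralizer ({(v : G)} : Set G)) where
  toFun p :=
    have hs := piP_spec π p.1.1
    have hv : coP π p.1.1 ∈ CoEls π N K :=
      ⟨mem_of_zpowers p.2.1 hs.2.2.1, coP_mem hg p.2.2.1, hs.2.2.2.2⟩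
    have hnv : Commute p.1.2 (coP π p.1.1) := commute_of_mem_zpowers hs.2.2.1 p.2.2.2.2.2.symm
    have hav : Commute (piP π p.1.1) (coP π p.1.1) :=
      (commute_of_mem_zpowers hs.2.1
        (commute_of_mem_zpowers hs.2.2.1 (Commute.refl p.1.1)).symm).symm
    have hga : g⁻¹ * piP π p.1.1 ∈ N := by
      have : g⁻¹ * piP π p.1.1 = g⁻¹ * p.1.1 * (coP π p.1.1)⁻¹ := by
        rw [eq_mul_inv_iff_mul_eq, mul_assoc, hs.1]
      rw [this]
      exact N.mul_mem p.2.2.1 (N.inv_mem (coP_mem hg p.2.2.1))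
    ⟨⟨coP π p.1.1, hv⟩, ⟨(piP π p.1.1, p.1.2),
      ⟨Subgroup.mem_inf.mpr ⟨mem_of_zpowers p.2.1 hs.2.1,
          Subgroup.mem_centralizer_singleton_iff.mpr hav.eq⟩, hga,
        Subgroup.mem_inf.mpr ⟨p.2.2.2.1, Subgroup.mem_centralizer_singleton_iff.mpr hnv.eq⟩,
        p.2.2.2.2.1,
        (commute_of_mem_zpowers hs.2.1 p.2.2.2.2.2.symm).symm⟩, hs.2.2.2.1⟩⟩
  invFun s := ⟨(s.2.1.1 * s.1.1, s.2.1.2),
    K.mul_mem (Subgroup.mem_inf.mp s.2.2.1.1).1 s.1.2.1,
    by simpa [mul_assoc] using N.mul_mem s.2.2.1.2.1 s.1.2.2.1,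
    (Subgroup.mem_inf.mp s.2.2.1.2.2.1).1, s.2.2.1.2.2.2.1,
    s.2.2.1.2.2.2.2.mul_left
      ((Subgroup.mem_centralizer_singleton_iff.mp (Subgroup.mem_inf.mp s.2.2.1.2.2.1).2 :
        Commute s.2.1.2 s.1.1).symm)⟩
  left_inv p := by
    apply Subtype.ext
    simp only
    rw [(piP_spec π p.1.1).1]
  right_inv s := by
    obtain ⟨⟨v, hv⟩, ⟨⟨x, u⟩, hp, hu⟩⟩ := s
    have hc : Commute x v :=
      Subgroup.mem_centralizer_singleton_iff.mp (Subgroup.mem_inf.mp hp.1).2
    obtain ⟨e1, e2⟩ := parts_unique hc hu hv.2.2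
    apply Sigma.subtype_ext
    · exact Subtype.ext e2
    · simp only [e1]

/-- The reciprocity: `π`-elements may sit in either entry. -/
theorem card_pairsFst_eq [N.Normal] (hg : IsPiEl π (QuotientGroup.mk' N g)) :
    ∀ K : Subgroup G, Nat.card (PairsFst π N g K) = Nat.card (PairsSnd π N g K) := by
  classical
  suffices ∀ m : ℕ, ∀ K : Subgroup G, Nat.card ↥(N ⊓ K) = m →
      Nat.card (PairsFst π N g K) = Nat.card (PairsSnd π N g K) from fun K => this _ K rfl
  intro m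
  induction m using Nat.strong_induction_on with
  | _ m ih =>
    intro K hK
    haveI : Fintype (CoEls π N K) := Fintype.ofFinite _
    let A : CoEls π N K → ℕ := fun v =>
      Nat.card (PairsFst π N g (K ⊓ Subgroup.centralizer ({(v : G)} : Set G)))
    let U : CoEls π N K → ℕ := fun v =>
      Nat.card (PairsSnd π N g (K ⊓ Subgroup.centralizer ({(v : G)} : Set G)))
    have hsum : ∑ v, A v = ∑ v, U v := by
      have h1 := Nat.card_congr (sliceFst hg K)
      have h2 := Nat.card_congr (sliceSnd π N g K)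
      rw [Nat.card_sigma] at h1 h2
      exact h1.symm.trans h2
    have hcases : ∀ v, A v = U v ∨ (A v = Nat.card (PairsFst π N g K) ∧
        U v = Nat.card (PairsSnd π N g K)) := by
      intro v
      set K' := K ⊓ Subgroup.centralizer ({(v : G)} : Set G) with hK'
      have hle : N ⊓ K' ≤ N ⊓ K := inf_le_inf_left N inf_le_left
      rcases (Subgroup.card_le_of_le hle).lt_or_eq with hlt | heq
      · exact Or.inl (ih _ (hK ▸ hlt) K' rfl)
      · have hNK : N ⊓ K' = N ⊓ K := Subgroup.eq_of_le_of_card_ge hle heq.ge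
        by_cases hD : ∀ x ∈ K, g⁻¹ * x ∈ N → x ∈ K'
        · refine Or.inr ⟨?_, ?_⟩ <;>
          · refine Nat.card_congr (Equiv.setCongr (Set.ext fun p => ?_))
            simp only [PairsFst, PairsSnd, Pairs, Set.mem_setOf_eq]
            constructor
            · rintro ⟨⟨a, b, c, d, e⟩, f⟩
              exact ⟨⟨(Subgroup.mem_inf.mp a).1, b, (Subgroup.mem_inf.mp c).1, d, e⟩, f⟩
            · rintro ⟨⟨a, b, c, d, e⟩, f⟩
              have : p.2 ∈ N ⊓ K' := hNK ▸ Subgroup.mem_inf.mpr ⟨d, c⟩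
              exact ⟨⟨hD _ a b, b, (Subgroup.mem_inf.mp this).2, d, e⟩, f⟩
        · push_neg at hD
          obtain ⟨x₀, hx₀K, hx₀N, hx₀⟩ := hD
          refine Or.inl ?_
          have hempty : ∀ p : G × G, p.1 ∈ K' → g⁻¹ * p.1 ∈ N → False := by
            intro p hp hpN
            apply hx₀
            have hd : p.1⁻¹ * x₀ ∈ N ⊓ K := Subgroup.mem_inf.mpr
              ⟨by simpa [mul_assoc] using N.mul_mem (N.inv_mem hpN) hx₀N,
                K.mul_mem (K.inv_mem (Subgroup.mem_inf.mp hp).1) hx₀K⟩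
            rw [← hNK] at hd
            simpa using K'.mul_mem hp (Subgroup.mem_inf.mp hd).2
          have e1 : PairsFst π N g K' = ∅ :=
            Set.eq_empty_iff_forall_notMem.mpr fun p hp => hempty p hp.1.1 hp.1.2.1
          have e2 : PairsSnd π N g K' = ∅ :=
            Set.eq_empty_iff_forall_notMem.mpr fun p hp => hempty p hp.1.1 hp.1.2.1
          simp only [A, U, ← hK', e1, e2]
    have h1mem : (1 : G) ∈ CoEls π N K :=
      ⟨K.one_mem, N.one_mem, fun q hq hd => absurd (orderOf_one (G := G) ▸ hd) hq.not_dvd_one⟩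
    have hone : K ⊓ Subgroup.centralizer ({(1 : G)} : Set G) = K :=
      inf_eq_left.mpr fun x _ => Subgroup.mem_centralizer_singleton_iff.mpr (by simp)
    have hA1 : A ⟨1, h1mem⟩ = Nat.card (PairsFst π N g K) := by simp only [A, hone]
    have hU1 : U ⟨1, h1mem⟩ = Nat.card (PairsSnd π N g K) := by simp only [U, hone]
    rcases lt_trichotomy (Nat.card (PairsFst π N g K)) (Nat.card (PairsSnd π N g K)) with h | h | h
    · refine absurd hsum (Finset.sum_lt_sum (fun v _ => ?_) ⟨⟨1, h1mem⟩, Finset.mem_univ _, ?_⟩).ne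
      · rcases hcases v with e | ⟨e, e'⟩ <;> omega
      · omega
    · exact h
    · refine absurd hsum.symm
        (Finset.sum_lt_sum (fun v _ => ?_) ⟨⟨1, h1mem⟩, Finset.mem_univ _, ?_⟩).ne
      · rcases hcases v with e | ⟨e, e'⟩ <;> omega
      · omega

/-- At most as many pairs over the coset as commuting pairs of `N` with a `π`-element first. -/
theorem card_pairsFst_le [N.Normal] (hg : IsPiEl π (QuotientGroup.mk' N g)) :
    Nat.card (PairsFst π N g ⊤) ≤
      Nat.card {p : N × N // IsPiEl π p.1 ∧ Commute p.1 p.2} := by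
  classical
  rw [card_pairsFst_eq hg]
  let x₀ : G → G := fun n =>
    if h : ∃ x : G, g⁻¹ * x ∈ N ∧ Commute x n then h.choose else 1
  have hx₀ : ∀ p : PairsSnd π N g ⊤, g⁻¹ * x₀ p.1.2 ∈ N ∧ Commute (x₀ p.1.2) p.1.2 := by
    intro p
    have h : ∃ x : G, g⁻¹ * x ∈ N ∧ Commute x p.1.2 := ⟨p.1.1, p.2.1.2.1, p.2.1.2.2.2.2⟩
    simp only [x₀, dif_pos h]
    exact h.choose_spec
  refine Nat.card_le_card_of_injective (fun p => ⟨(⟨p.1.2, p.2.1.2.2.2.1⟩,
    ⟨(x₀ p.1.2)⁻¹ * p.1.1, ?_⟩), ?_, ?_⟩) ?_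
  · simpa [mul_assoc] using N.mul_mem (N.inv_mem (hx₀ p).1) p.2.1.2.1
  · simpa [IsPiEl, Subgroup.orderOf_mk] using p.2.2
  · exact Subtype.ext (((hx₀ p).2.inv_left.symm.mul_right p.2.1.2.2.2.2.symm).eq)
  · intro p q h
    simp only [Subtype.mk.injEq, Prod.mk.injEq] at h
    obtain ⟨h2, h1⟩ := h
    rw [h2, mul_right_inj] at h1
    exact Subtype.ext (Prod.ext h1 h2)

/-- Conjugacy classes of `π`-elements. -/
def PiClasses (π : Set ℕ) (H : Type*) [Group H] : Type _ :=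
  {C : ConjClasses H // ∀ q : ℕ, q.Prime → (∃ g : H, ConjClasses.mk g = C ∧ q ∣ orderOf g) → q ∈ π}

theorem card_pairs_le_classes {H : Type*} [Group H] [Finite H] :
    Nat.card {p : H × H // IsPiEl π p.1 ∧ Commute p.1 p.2} ≤
      Nat.card (PiClasses π H) * Nat.card H := by
  classical
  haveI : Finite (PiClasses π H) := Subtype.finite
  rw [← Nat.card_prod]
  have hw : ∀ m : H, ∃ w : H, w * (ConjClasses.mk m).out * w⁻¹ = m := by
    intro m
    exact isConj_iff.mp (ConjClasses.mk_eq_mk_iff_isConj.mp (Quotient.out_eq _))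
  choose w hw using hw
  refine Nat.card_le_card_of_injective (fun p => (⟨ConjClasses.mk p.1.1, ?_⟩, p.1.2 * w p.1.1)) ?_
  · rintro q hq ⟨y, hy, hd⟩
    have hyo : orderOf y = orderOf p.1.1 := by
      obtain ⟨c, hc⟩ := isConj_iff.mp (ConjClasses.mk_eq_mk_iff_isConj.mp hy)
      rw [← hc, ← MulAut.conj_apply, MulEquiv.orderOf_eq]
    exact p.2.1 q hq (hyo ▸ hd)
  · intro p p' h
    have h2 : p.1.2 * w p.1.1 = p'.1.2 * w p'.1.1 := congrArg Prod.snd h
    have hcls : ConjClasses.mk p.1.1 = ConjClasses.mk p'.1.1 :=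
      congrArg Subtype.val (congrArg Prod.fst h)
    have key : ∀ s : {p : H × H // IsPiEl π p.1 ∧ Commute p.1 p.2},
        (s.1.2 * w s.1.1) * (ConjClasses.mk s.1.1).out * (s.1.2 * w s.1.1)⁻¹ = s.1.1 := by
      intro s
      calc _ = s.1.2 * (w s.1.1 * (ConjClasses.mk s.1.1).out * (w s.1.1)⁻¹) * s.1.2⁻¹ := by group
        _ = s.1.2 * s.1.1 * s.1.2⁻¹ := by rw [hw]
        _ = s.1.1 := by rw [← s.2.2.eq, mul_inv_cancel_right]
    have e1 : p.1.1 = p'.1.1 := by rw [← key p, ← key p', h2, hcls]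
    rw [e1, mul_left_inj] at h2
    exact Subtype.ext (Prod.ext e1 h2)

theorem card_classes_le (π : Set ℕ) (N : Subgroup G) [N.Normal] :
    Nat.card (PiClasses π G) ≤ Nat.card (PiClasses π N) * Nat.card (PiClasses π (G ⧸ N)) := by
  classical
  haveI : Finite (PiClasses π G) := Subtype.finite
  haveI : Finite (PiClasses π N) := Subtype.finite
  haveI : Finite (PiClasses π (G ⧸ N)) := Subtype.finite
  have hpi : ∀ (x : G) (C : PiClasses π G), ConjClasses.mk x = C.1 → IsPiEl π x :=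
    fun x C h q hq hd => C.2 q hq ⟨x, h, hd⟩
  let f : PiClasses π G → PiClasses π (G ⧸ N) := fun C =>
    ⟨ConjClasses.mk (QuotientGroup.mk' N C.1.out), by
      rintro q hq ⟨y, hy, hd⟩
      obtain ⟨c, hc⟩ := isConj_iff.mp (ConjClasses.mk_eq_mk_iff_isConj.mp hy)
      have : orderOf y ∣ orderOf C.1.out := by
        rw [← MulEquiv.orderOf_eq (MulAut.conj c) y, MulAut.conj_apply, hc]
        exact orderOf_map_dvd _ _
      exact hpi _ C (Quotient.out_eq _) q hq (hd.trans this)⟩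
  have hfib : ∀ D : PiClasses π (G ⧸ N),
      Nat.card {C // f C = D} ≤ Nat.card (PiClasses π N) := by
    intro D
    obtain ⟨g, hg⟩ := QuotientGroup.mk'_surjective N D.1.out
    have hgπ : IsPiEl π (QuotientGroup.mk' N g) := fun q hq hd =>
      D.2 q hq ⟨_, by rw [hg]; exact Quotient.out_eq _, hd⟩
    have hrep : ∀ C : {C // f C = D}, ∃ x : G, ConjClasses.mk x = C.1.1 ∧ g⁻¹ * x ∈ N := by
      intro C
      have h : ConjClasses.mk (QuotientGroup.mk' N C.1.1.out) =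
          ConjClasses.mk (QuotientGroup.mk' N g) := by
        rw [hg]
        exact (congrArg Subtype.val C.2).trans (Quotient.out_eq _).symm
      obtain ⟨c, hc⟩ := isConj_iff.mp (ConjClasses.mk_eq_mk_iff_isConj.mp h)
      obtain ⟨c, rfl⟩ := QuotientGroup.mk'_surjective N c
      refine ⟨c * C.1.1.out * c⁻¹, ?_, ?_⟩
      · exact (ConjClasses.mk_eq_mk_iff_isConj.mpr
          (isConj_iff.mpr ⟨c⁻¹, by simp [mul_assoc]⟩)).trans (Quotient.out_eq C.1.1)
      · rw [← QuotientGroup.eq]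
        simpa using hc.symm
    choose x hxC hxN using hrep
    let w : {C // f C = D} → G → G := fun C y =>
      if h : ∃ n : G, n ∈ N ∧ n * x C * n⁻¹ = y then h.choose else 1
    have hw : ∀ C (n : N), w C (n * x C * (n : G)⁻¹) ∈ N ∧
        w C (n * x C * (n : G)⁻¹) * x C * (w C (n * x C * (n : G)⁻¹))⁻¹ =
          n * x C * (n : G)⁻¹ := by
      intro C n
      have h : ∃ m : G, m ∈ N ∧ m * x C * m⁻¹ = n * x C * (n : G)⁻¹ := ⟨n, n.2, rfl⟩
      simp only [w, dif_pos h]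
      exact h.choose_spec
    have h1 : Nat.card {C // f C = D} * Nat.card N ≤ Nat.card (PairsFst π N g ⊤) := by
      rw [← Nat.card_prod]
      refine Nat.card_le_card_of_injective (fun s => ⟨(s.2 * x s.1 * (s.2 : G)⁻¹,
        s.2 * (w s.1 (s.2 * x s.1 * (s.2 : G)⁻¹))⁻¹),
        ⟨Subgroup.mem_top _, ?_, Subgroup.mem_top _, N.mul_mem s.2.2 (N.inv_mem (hw _ _).1), ?_⟩,
        ?_⟩) ?_
      · rw [← QuotientGroup.eq]
        have := QuotientGroup.eq.mpr (hxN s.1)
        simp [(QuotientGroup.eq_one_iff _).mpr s.2.2, this]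
      · set n : G := (s.2 : G)
        set W := w s.1 (n * x s.1 * n⁻¹)
        have e : W * x s.1 * W⁻¹ = n * x s.1 * n⁻¹ := (hw s.1 s.2).2
        show n * x s.1 * n⁻¹ * (n * W⁻¹) = n * W⁻¹ * (n * x s.1 * n⁻¹)
        calc n * x s.1 * n⁻¹ * (n * W⁻¹) = n * W⁻¹ * (W * x s.1 * W⁻¹) := by group
          _ = n * W⁻¹ * (n * x s.1 * n⁻¹) := by rw [e]
      · exact hpi _ s.1.1 (by
          rw [← hxC s.1]
          exact ConjClasses.mk_eq_mk_iff_isConj.mpr
            (isConj_iff.mpr ⟨(s.2 : G)⁻¹, by simp [mul_assoc]⟩))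
      · intro s s' h
        have h1 : (s.2 : G) * x s.1 * (s.2 : G)⁻¹ = s'.2 * x s'.1 * (s'.2 : G)⁻¹ :=
          congrArg (fun t : PairsFst π N g ⊤ => t.1.1) h
        have h2 : (s.2 : G) * (w s.1 (s.2 * x s.1 * (s.2 : G)⁻¹))⁻¹ =
            s'.2 * (w s'.1 (s'.2 * x s'.1 * (s'.2 : G)⁻¹))⁻¹ :=
          congrArg (fun t : PairsFst π N g ⊤ => t.1.2) h
        have hC : s.1 = s'.1 := by
          apply Subtype.ext; apply Subtype.ext
          rw [← hxC, ← hxC]
          refine ConjClasses.mk_eq_mk_iff_isConj.mpr (isConj_iff.mpr ⟨(s'.2 : G)⁻¹ * s.2, ?_⟩)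
          calc (s'.2 : G)⁻¹ * s.2 * x s.1 * ((s'.2 : G)⁻¹ * s.2)⁻¹
              = (s'.2 : G)⁻¹ * (s.2 * x s.1 * (s.2 : G)⁻¹) * s'.2 := by group
            _ = x s'.1 := by rw [h1]; group
        obtain ⟨C, n⟩ := s
        obtain ⟨C', n'⟩ := s'
        simp only at hC h1 h2
        subst hC
        rw [h1, mul_left_inj] at h2
        exact Prod.ext rfl (Subtype.ext h2)
    have h2 := h1.trans ((card_pairsFst_le hgπ).trans card_pairs_le_classes)
    exact Nat.le_of_mul_le_mul_right h2 Nat.card_pos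
  haveI : Fintype (PiClasses π (G ⧸ N)) := Fintype.ofFinite _
  calc Nat.card (PiClasses π G) = ∑ D, Nat.card {C // f C = D} := by
        rw [← Nat.card_sigma]
        exact Nat.card_congr (Equiv.sigmaFiberEquiv f).symm
    _ ≤ ∑ _D : PiClasses π (G ⧸ N), Nat.card (PiClasses π N) :=
        Finset.sum_le_sum fun D _ => hfib D
    _ = _ := by simp [Nat.card_eq_fintype_card, mul_comm]

end CfsgLib.ClassPi
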